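import Groth.Agent.GrpSch.K86.GmPow
import Groth.Agent.AlgGrp.K407.TorsorDesc
import Groth.Agent.AlgGrp.K395.SumiTorus
import Groth.Agent.AlgGrp.K406.GrpInt

/-!
# Node (3.1) of S14306: invertible modules on a semi-abelian variety come from the abelian quotient
-/

set_option autoImplicit false
universe u
open CategoryTheory CategoryTheory.Limits MonoidalCategory CartesianMonoidalCategory MonObj GrpObj AlgebraicGeometry
open K270.MB Groth.Agent.Grpsch.PicGrp

namespace K86.NodePic

noncomputable section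

section Act

variable {S : Scheme.{u}} {G T B : Over S} [GrpObj G] [GrpObj T] [GrpObj B] (τ : T ⟶ G) [IsMonHom τ]

/-- Left translations through a homomorphism. -/
def act : AlgGrp.Action T G where
  act := (fst T G ≫ τ) * snd T G
  one_act := by
    rw [MonObj.comp_mul, whiskerRight_fst_assoc, whiskerRight_snd, IsMonHom.one_hom]
    have h1 : fst (𝟙_ (Over S)) G ≫ η[G] = (1 : 𝟙_ (Over S) ⊗ G ⟶ G) := by
      rw [one_eq_one]
      exact MonObj.comp_one _
    rw [h1, _root_.one_mul, leftUnitor_hom]
  mul_act := by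
    simp only [MonObj.comp_mul, whiskerRight_fst_assoc, whiskerRight_snd, whiskerLeft_fst_assoc, whiskerLeft_snd,
      associator_hom_fst_assoc]
    rw [MonObj.mul_eq_mul, MonObj.mul_comp]
    simp only [MonObj.comp_mul, associator_hom_snd_fst_assoc, associator_hom_snd_snd, _root_.mul_assoc]

variable {τ}

theorem isPullback_act {π : G ⟶ B} [IsMonHom π] [Mono τ]
    (ker : ∀ {T' : Over S} (x : T' ⟶ G), Fac τ x ↔ x ≫ π = 1) :
    IsPullback (act τ).act.left (snd T G).left π.left π.left := by
  have h0 : τ ≫ π = 1 := (ker τ).1 ⟨𝟙 _, Category.id_comp _⟩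
  have h : IsPullback (act τ).act (snd T G) π π := by
    refine ⟨⟨?_⟩, ⟨PullbackCone.IsLimit.mk _
      (fun s => lift ((ker (s.fst * s.snd⁻¹)).2 ?_).choose s.snd) ?_ ?_ ?_⟩⟩
    · change ((fst T G ≫ τ) * snd T G) ≫ π = _
      rw [MonObj.mul_comp, Category.assoc, h0, MonObj.comp_one, _root_.one_mul]
    · rw [MonObj.mul_comp, GrpObj.inv_comp, s.condition, mul_inv_cancel]
    · intro s
      have h1 := ((ker (s.fst * s.snd⁻¹)).2 (by
        rw [MonObj.mul_comp, GrpObj.inv_comp, s.condition, mul_inv_cancel])).choose_spec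
      change lift _ s.snd ≫ ((fst T G ≫ τ) * snd T G) = _
      rw [MonObj.comp_mul, lift_fst_assoc, lift_snd, h1, inv_mul_cancel_right]
    · intro s
      exact lift_snd _ _
    · intro s m h1 h2
      have h3 := ((ker (s.fst * s.snd⁻¹)).2 (by
        rw [MonObj.mul_comp, GrpObj.inv_comp, s.condition, mul_inv_cancel])).choose_spec
      ext1
      · rw [lift_fst, ← cancel_mono τ, h3, ← h1]
        change _ = m ≫ ((fst T G ≫ τ) * snd T G) * _
        rw [MonObj.comp_mul, h2, mul_inv_cancel_right, Category.assoc]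
      · rw [lift_snd, h2]
  exact h.map (Over.forget S)

end Act

theorem main : K270.MB.NodePic.{u} := by
  intro k _ _ G T B _ _ _ _ _ _ _ _ r χ τ π hS L hL
  have hT := GmPow.isSplit hS.gm
  obtain ⟨_, _, hTirr, -, hTpic⟩ := K395.SumiTorus.isGood hT
  have := hS.sub.mon
  have := hS.sub.closed
  have := hS.mon
  have := hS.flat
  have := hS.surj
  have := hS.proper
  have hmono : Mono τ := (Over.forget _).mono_of_mono_map (inferInstanceAs (Mono τ.left))
  have hsq := isPullback_act (τ := τ) (π := π) hS.ker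
  have hG : IsIntegral G.left := K406.GrpInt.isIntegral_grp G
  have hqc : QuasiCompact π.left := by
    have : QuasiCompact (π.left ≫ B.hom) := by rw [Over.w π]; infer_instance
    exact QuasiCompact.of_comp π.left B.hom
  obtain ⟨d, hd⟩ := K407.TorsorDesc.exists_pull T G B (act τ) π hsq 1 (mk L hL) (by
    have h1 := hTpic G (Groth.Agent.Sga4B.SmoothNormal.isNormalScheme_of_smooth G.hom) (pull (act τ).act.left (mk L hL))
    have h2 : K395.TorDec.sc G (1 : 𝟙_ _ ⟶ T) ≫ (act τ).act = 𝟙 G := by
      rw [K395.TorDec.sc, MonObj.comp_one]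
      exact K395.Act.one_lift (act τ) _
    rw [← pull_comp (K395.TorDec.sc G (1 : 𝟙_ _ ⟶ T)).left (act τ).act.left, ← Over.comp_left, h2, Over.id_left,
      pull_id] at h1
    exact h1.symm)
  obtain ⟨M, hM, rfl⟩ := exists_mk d
  rw [pull_mk, mk_eq_iff] at hd
  exact ⟨M, hM, hd⟩

end

end K86.NodePic
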