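import Groth.Agent.GrpSch.K270.MB.Shape
import Groth.Agent.Sga3B.DSPts
import Groth.Agent.Sga3B.Pts

/-!
# `IsGmPow r T χ` and split tori

`isSplit`: `T` is a split torus with character group `ℤ^r`.
-/

set_option autoImplicit false
universe u
open CategoryTheory CategoryTheory.Limits MonoidalCategory CartesianMonoidalCategory MonObj GrpObj AlgebraicGeometry
open K270.MB Groth.Agent.Sga3B.DSPts

namespace K86.GmPow

noncomputable section

variable {r : ℕ}

/-- The character of `ℤ^r` attached to `r` units. -/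
def cm {E : Type u} [CommRing E] (v : Fin r → Eˣ) : Multiplicative (Fin r → ℤ) →* E where
  toFun n := ((∏ j, v j ^ (n.toAdd j) : Eˣ) : E)
  map_one' := by simp
  map_mul' n m := by
    rw [← Units.val_mul, ← Finset.prod_mul_distrib]
    congr 1
    refine Finset.prod_congr rfl fun j _ => ?_
    rw [toAdd_mul, Pi.add_apply, zpow_add]

lemma cm_apply {E : Type u} [CommRing E] (v : Fin r → Eˣ) (n : Multiplicative (Fin r → ℤ)) :
    cm v n = ((∏ j, v j ^ (n.toAdd j) : Eˣ) : E) := rfl

lemma cm_single {E : Type u} [CommRing E] (v : Fin r → Eˣ) (j : Fin r) :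
    cm v (Multiplicative.ofAdd (Pi.single j 1)) = v j := by
  rw [cm_apply]
  congr 1
  rw [Finset.prod_eq_single j]
  · simp
  · intro i _ hi
    simp [Pi.single_eq_of_ne hi]
  · simp

lemma cm_mul {E : Type u} [CommRing E] (v w : Fin r → Eˣ) : cm (v * w) = cm v * cm w := by
  refine MonoidHom.ext fun n => ?_
  rw [MonoidHom.mul_apply, cm_apply, cm_apply, cm_apply, ← Units.val_mul, ← Finset.prod_mul_distrib]
  congr 1
  refine Finset.prod_congr rfl fun j _ => ?_
  rw [Pi.mul_apply, mul_zpow]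

lemma comp_cm {E E' : Type u} [CommRing E] [CommRing E'] (φ : E →+* E') (v : Fin r → Eˣ) :
    (φ : E →* E').comp (cm v) = cm fun j => Units.map (φ : E →* E') (v j) := by
  refine MonoidHom.ext fun n => ?_
  rw [MonoidHom.comp_apply, cm_apply, cm_apply]
  change φ _ = _
  have h := congrArg Units.val (map_prod (Units.map (φ : E →* E')) (fun j => v j ^ (n.toAdd j)) Finset.univ)
  rw [Units.coe_map] at h
  refine h.trans ?_
  congr 1
  refine Finset.prod_congr rfl fun j _ => ?_
  rw [map_zpow]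

lemma cm_injective {E : Type u} [CommRing E] : Function.Injective (cm (r := r) (E := E)) := by
  intro v w h
  ext j
  rw [← cm_single v j, h, cm_single]

lemma cm_surjective {E : Type u} [CommRing E] : Function.Surjective (cm (r := r) (E := E)) := by
  intro c
  refine ⟨fun j => MonoidHom.toHomUnits c (Multiplicative.ofAdd (Pi.single j 1)), ?_⟩
  refine MonoidHom.ext fun n => ?_
  rw [cm_apply, ← MonoidHom.coe_toHomUnits c n]
  congr 1
  have h1 : n = ∏ j, (Multiplicative.ofAdd (Pi.single j (1 : ℤ)) : Multiplicative (Fin r → ℤ)) ^ (n.toAdd j) := by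
    apply Multiplicative.toAdd.injective
    rw [toAdd_prod]
    ext i
    simp [Finset.sum_apply, Pi.single_apply]
  conv_rhs => rw [h1, map_prod]
  refine Finset.prod_congr rfl fun j _ => ?_
  rw [map_zpow]

lemma cm_bijective {E : Type u} [CommRing E] : Function.Bijective (cm (r := r) (E := E)) :=
  ⟨cm_injective, cm_surjective⟩

variable {S : Scheme.{u}} {T : Over S} [GrpObj T] {χ : Fin r → U T}

/-- The comparison morphism. -/
def toDS (χ : Fin r → U T) : T ⟶ Red.DS S (Fin r → ℤ) := dsEquiv T (Fin r → ℤ) (cm χ)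

omit [GrpObj T] in
lemma comp_toDS {T' : Over S} (x : T' ⟶ T) : x ≫ toDS χ = dsEquiv T' (Fin r → ℤ) (cm fun j => ures x (χ j)) := by
  rw [toDS, dsEquiv_naturality, comp_cm]
  rfl

lemma isMonHom_toDS (h : IsGmPow r T χ) : IsMonHom (toDS χ) := by
  refine Groth.Agent.Sga3B.Pts.isMonHom_of_universal _ ?_
  rw [comp_toDS, comp_toDS, comp_toDS, ← map_mul, ← cm_mul]
  congr 2
  ext j
  rw [h.mul]
  rfl

lemma bijective_toDS (h : IsGmPow r T χ) (T' : Over S) : Function.Bijective (fun x : T' ⟶ T => x ≫ toDS χ) := by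
  have e : (fun x : T' ⟶ T => x ≫ toDS χ) =
      (dsEquiv T' (Fin r → ℤ)) ∘ cm ∘ (fun (x : T' ⟶ T) (j : Fin r) => ures x (χ j)) := by
    ext1 x
    exact comp_toDS x
  rw [e]
  refine (dsEquiv T' (Fin r → ℤ)).bijective.comp (cm_bijective.comp ⟨fun x y hxy => ?_, fun v => ?_⟩)
  · obtain ⟨z, -, hz⟩ := h.bij (fun j => ures x (χ j))
    rw [hz x fun j => rfl, hz y fun j => (congrFun hxy j).symm]
  · obtain ⟨z, hz, -⟩ := h.bij v
    exact ⟨z, funext hz⟩

lemma isIso_toDS (h : IsGmPow r T χ) : IsIso (toDS χ) := by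
  obtain ⟨s, hs⟩ := (bijective_toDS h _).2 (𝟙 (Red.DS S (Fin r → ℤ)))
  refine ⟨s, (bijective_toDS h _).1 ?_, hs⟩
  change (toDS χ ≫ s) ≫ toDS χ = 𝟙 T ≫ toDS χ
  change s ≫ toDS χ = 𝟙 _ at hs
  rw [Category.assoc, hs, Category.comp_id, Category.id_comp]

/-- **`𝔾_m^r` is a split torus.** -/
theorem isSplit (h : IsGmPow r T χ) : Red.IsSplitTorusWith (Fin r → ℤ) T := by
  have := isIso_toDS h
  have := isMonHom_toDS h
  exact ⟨Grp.mkIso (asIso (toDS χ)) (IsMonHom.one_hom (f := toDS χ)) (IsMonHom.mul_hom (f := toDS χ))⟩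

end

end K86.GmPow
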