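import Groth.Agent.PRed.K541.DvrCpl
import Groth.Agent.EGA2.K33.DvrField
import Mathlib.RingTheory.Henselian
import Mathlib.RingTheory.PowerSeries.Inverse

/-!
# Domination of a Noetherian local domain by a complete discrete valuation ring with algebraically closed residue field
-/

set_option autoImplicit false

open IsLocalRing

namespace K86.DvrDom

universe u

/-- A complete local ring is henselian. -/
theorem henselian_of_complete (A : Type u) [CommRing A] [IsLocalRing A] [IsAdicComplete (maximalIdeal A) A] :
    HenselianLocalRing A where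
  is_henselian f hf a₀ h₁ h₂ :=
    HenselianRing.is_henselian (I := maximalIdeal A) f hf a₀ h₁ (h₂.map (Ideal.Quotient.mk (maximalIdeal A)))

open K541.DvrQuot K541.DvrCpl

/-- The case of a discrete valuation ring. -/
theorem exists_of_dvr (R : Type u) [CommRing R] [IsDomain R] [IsDiscreteValuationRing R] :
    ∃ (C : Type u) (_ : CommRing C) (_ : IsDomain C) (_ : IsDiscreteValuationRing C) (φ : R →+* C),
      IsLocalHom φ ∧ Function.Injective φ ∧ IsAdicComplete (maximalIdeal C) C ∧ IsAlgClosed (ResidueField C) := by
  obtain ⟨t, htirr⟩ := IsDiscreteValuationRing.exists_irreducible R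
  have htm : maximalIdeal R = Ideal.span {t} := htirr.maximalIdeal_eq
  let K := AlgebraicClosure (ResidueField R)
  obtain ⟨B, _, _, hBnoeth, hBloc, hlh, hflat, e, he⟩ := Groth.Agent.S2363.result (A := R) K
  have hmaxB : (maximalIdeal R).map (algebraMap R B) = maximalIdeal B := by
    have h1 : ((maximalIdeal R).map (algebraMap R B)).IsMaximal :=
      Ideal.Quotient.maximal_of_isField _ (e.toMulEquiv.isField (Field.toIsField K))
    exact IsLocalRing.eq_maximalIdeal h1
  let tB : B := algebraMap R B t
  have htB : maximalIdeal B = Ideal.span {tB} := by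
    rw [← hmaxB, htm, Ideal.map_span, Set.image_singleton]
  have hinjB : Function.Injective (algebraMap R B) := by
    have : Module.FaithfullyFlat R B := Module.FaithfullyFlat.of_flat_of_isLocalHom
    exact FaithfulSMul.algebraMap_injective R B
  let C := AdicCompletion (maximalIdeal B) B
  have hinjC : Function.Injective (algebraMap B C) := by
    have := AdicCompletion.of_injective (maximalIdeal B) B
    exact this
  let φ : R →+* C := (algebraMap B C).comp (algebraMap R B)
  have hφinj : Function.Injective φ := hinjC.comp hinjB
  let tC : C := algebraMap B C tB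
  have htC : maximalIdeal C = Ideal.span {tC} := by
    rw [AdicCompletion.maximalIdeal_eq_map]
    apply le_antisymm
    · rw [Ideal.map_le_iff_le_comap]
      intro x hx
      rw [htB, Ideal.mem_span_singleton] at hx
      rw [Ideal.mem_comap, Ideal.mem_span_singleton]
      exact map_dvd _ hx
    · rw [Ideal.span_singleton_le_iff_mem]
      exact Ideal.mem_map_of_mem _ (by rw [htB]; exact Ideal.mem_span_singleton_self _)
  have hnil : ∀ n, tC ^ n ≠ 0 := by
    intro n hn
    have h1 : φ (t ^ n) = 0 := by rw [map_pow]; exact hn
    rw [map_eq_zero_iff φ hφinj] at h1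
    exact pow_ne_zero n htirr.ne_zero h1
  obtain ⟨hdom, hdvr⟩ := isDiscreteValuationRing_of_sep tC htC hnil (sep_eq_bot C)
  let eB : ResidueField B ≃+* K := (Ideal.quotEquivOfEq hmaxB.symm).trans e
  let eC : ResidueField B ≃+* ResidueField C :=
    RingEquiv.ofBijective _ (AdicCompletion.residueField_map_bijective B)
  have hac : IsAlgClosed (ResidueField C) := IsAlgClosed.of_ringEquiv K _ (eB.symm.trans eC)
  refine ⟨C, inferInstance, hdom, hdvr, φ, ?_, hφinj, inferInstance, hac⟩
  have : IsLocalHom (algebraMap B C) := inferInstance
  exact RingHom.isLocalHom_comp _ _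

/-- **Domination** by a complete discrete valuation ring with algebraically closed residue field. -/
theorem exists_dvr (R : Type u) [CommRing R] [IsDomain R] [IsLocalRing R] [IsNoetherianRing R] :
    ∃ (V : Type u) (_ : CommRing V) (_ : IsDomain V) (_ : IsDiscreteValuationRing V) (φ : R →+* V),
      IsLocalHom φ ∧ Function.Injective φ ∧ IsAdicComplete (maximalIdeal V) V ∧ HenselianLocalRing V ∧
        IsAlgClosed (ResidueField V) := by
  obtain ⟨W, _, _, _, ψ, hψ1, hψ2⟩ : ∃ (W : Type u) (_ : CommRing W) (_ : IsDomain W)
      (_ : IsDiscreteValuationRing W) (ψ : R →+* W), IsLocalHom ψ ∧ Function.Injective ψ := by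
    by_cases hR : IsField R
    · let _ : Field R := hR.toField
      refine ⟨PowerSeries R, inferInstance, inferInstance, inferInstance, PowerSeries.C, ?_,
        PowerSeries.C_injective⟩
      refine ⟨fun a ha => ?_⟩
      have h1 : a ≠ 0 := by
        rintro rfl
        rw [map_zero] at ha
        exact not_isUnit_zero ha
      exact h1.isUnit
    · obtain ⟨V, hV, h1, h2⟩ := K33.DvrField.exists_dvr_dominating (A := R) (K := FractionRing R)
        (L := FractionRing R) hR (by
          have h : (⊤ : IntermediateField (FractionRing R) (FractionRing R)) = ⊥ := Subsingleton.elim _ _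
          rw [h]
          exact IntermediateField.fg_bot)
      refine ⟨V, inferInstance, inferInstance, hV,
        (algebraMap R (FractionRing R)).codRestrict V.toSubring h1, ?_, ?_⟩
      · refine ⟨fun a ha => ?_⟩
        by_contra h3
        obtain ⟨h5, h6⟩ := ValuationSubring.mem_nonunits_iff_exists_mem_maximalIdeal.1
          ((h2 a).2 ((mem_maximalIdeal a).2 h3))
        exact (mem_maximalIdeal _).1 h6 ha
      · intro a b hab
        exact IsFractionRing.injective R (FractionRing R) (congrArg Subtype.val hab)
  obtain ⟨C, _, hC1, hC2, φ, h1, h2, h3, h4⟩ := exists_of_dvr W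
  exact ⟨C, inferInstance, hC1, hC2, φ.comp ψ, RingHom.isLocalHom_comp _ _, h2.comp hψ2, h3,
    henselian_of_complete C, h4⟩

end K86.DvrDom
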