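import Groth.Agent.GrpSch.K86.TPair
import Groth.Agent.AbDual.K732.PrincPol
import Groth.Agent.Flat2B.SmoothGeom
import Mathlib.AlgebraicGeometry.AlgClosed.Basic
import Mathlib.FieldTheory.Fixed

/-!
# The radical of a pairing over an algebraically closed field is determined by the rational points
-/

set_option autoImplicit false
universe u
open CategoryTheory CategoryTheory.Limits MonoidalCategory CartesianMonoidalCategory MonObj GrpObj AlgebraicGeometry
open K270.MB

namespace K86.GenRad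

noncomputable section

open Groth.Agent Groth.Agent.Sga3B.KerGrp Groth.Agent.Books Groth.Agent.Books.AffBridge Groth.Agent.Books.AffBridge2

/-- A finite scheme over a field has finitely many points with values in an extension. -/
theorem finite_hom {K Ω : Type u} [Field K] [Field Ω] [Algebra K Ω] (Kl : Over (Spec (CommRingCat.of K)))
    [IsFinite Kl.hom] : Finite (Over.mk (sp (algebraMap K Ω)) ⟶ Kl) := by
  have a1 : IsAffine Kl.left := isAffine_of_isAffineHom Kl.hom
  obtain ⟨E, _, _, ⟨e⟩⟩ := K732.PrincPol.exists_specOver Kl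
  have f1 := K732.EtKer.finite_of_isFinite e
  have f2 : Finite (E →ₐ[K] Ω) := inferInstance
  let F : (Over.mk (sp (algebraMap K Ω)) ⟶ Kl) → (E →ₐ[K] Ω) := fun f =>
    specPreimage K (show SpecOver K Ω ⟶ SpecOver K E from f ≫ e.hom)
  refine Finite.of_injective F fun f g h => ?_
  have h1 := congrArg (specMap K) h
  rw [specMap_specPreimage, specMap_specPreimage] at h1
  exact (cancel_mono e.hom).1 h1

/-- A function on a reduced scheme locally of finite type over an algebraically closed field which is `1` at the rational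
points is `1`. -/
theorem eq_one_of_points {Ω : Type u} [Field Ω] [IsAlgClosed Ω] {Z : Scheme.{u}} (f : Z ⟶ Spec (CommRingCat.of Ω))
    [LocallyOfFiniteType f] [IsReduced Z] (v : Γ(Z, ⊤))
    (h : ∀ q : Spec (CommRingCat.of Ω) ⟶ Z, q ≫ f = 𝟙 _ → q.appTop v = 1) : v = 1 := by
  have hJ : JacobsonSpace Z := LocallyOfFiniteType.jacobsonSpace f
  by_contra hne
  have h1 : Z.basicOpen (v - 1) ≠ ⊥ := fun h0 => hne (sub_eq_zero.1 ((basicOpen_eq_bot_iff _).1 h0))
  obtain ⟨z, hz, hz'⟩ := nonempty_inter_closedPoints (Z := (Z.basicOpen (v - 1) : Set Z))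
    ((TopologicalSpace.Opens.ne_bot_iff_nonempty _).1 h1) (Z.basicOpen (v - 1)).2.isLocallyClosed
  have h2 := h (pointOfClosedPoint f z hz') (pointOfClosedPoint_comp f z hz')
  have h3 : (pointOfClosedPoint f z hz') (IsLocalRing.closedPoint Ω) = z := pointOfClosedPoint_apply _ _ _ _
  have h4 : (pointOfClosedPoint f z hz') ⁻¹ᵁ (Z.basicOpen (v - 1)) =
      (Spec (CommRingCat.of Ω)).basicOpen ((pointOfClosedPoint f z hz').appTop (v - 1)) :=
    Scheme.preimage_basicOpen_top _ _
  have h5 : (pointOfClosedPoint f z hz').appTop (v - 1) = 0 := by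
    rw [map_sub, h2, map_one, sub_self]
  have h6 : IsLocalRing.closedPoint Ω ∈ (pointOfClosedPoint f z hz') ⁻¹ᵁ (Z.basicOpen (v - 1)) := by
    change (pointOfClosedPoint f z hz') (IsLocalRing.closedPoint Ω) ∈ Z.basicOpen (v - 1)
    rw [h3]
    exact hz
  rw [h4, h5, Scheme.basicOpen_zero] at h6
  exact h6

section Orth

variable {V K : Type u} [CommRing V] [Field K] [Algebra V K] (Ω : Type u) [Field Ω] [IsAlgClosed Ω] [Algebra K Ω]
  {A : Over (Spec (CommRingCat.of V))} [GrpObj A]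

variable (V K) in
/-- `Spec Ω` over `Spec V`. -/
abbrev P (Ω : Type u) [Field Ω] [Algebra K Ω] : Over (Spec (CommRingCat.of V)) :=
  (Over.map (sp (algebraMap V K))).obj (Over.mk (sp (algebraMap K Ω)))

variable {Ω} in
/-- A point orthogonal to the points with values in `Ω` is universally orthogonal to the torsion. -/
theorem orth {N : ℕ} (hN : Etale ((𝟙 A : A ⟶ A) ^ N).left) (e : TPairing A N) (x : P V K Ω ⟶ A) (hx : x ^ N = 1)
    (h : ∀ (y : P V K Ω ⟶ A) (hy : y ^ N = 1), e.e x y hx hy = 1) {T : Over (Spec (CommRingCat.of V))}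
    (g : T ⟶ P V K Ω) (y : T ⟶ A) (hgx : (g ≫ x) ^ N = 1) (hy : y ^ N = 1) : e.e (g ≫ x) y hgx hy = 1 := by
  let W := kerObj ((𝟙 A : A ⟶ A) ^ N)
  let wA : W ⟶ A := kerι _
  have hW : Etale W.hom :=
    inferInstanceAs (Etale (pullback.snd ((𝟙 A : A ⟶ A) ^ N).left (η[A] : 𝟙_ (Over (Spec (CommRingCat.of V))) ⟶ A).left))
  have hι : wA ^ N = 1 := by
    have h1 := kerι_comp ((𝟙 A : A ⟶ A) ^ N)
    rwa [MonObj.comp_pow, Category.comp_id] at h1
  let f : (P V K Ω ⊗ W).left ⟶ Spec (CommRingCat.of Ω) := (fst (P V K Ω) W).left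
  have hf : Etale f := inferInstanceAs (Etale (pullback.fst (P V K Ω).hom W.hom))
  have hred : IsReduced (P V K Ω ⊗ W).left := Flat2B.SmoothGeom.isReduced_of_smooth f
  have hxW : (fst (P V K Ω) W ≫ x) ^ N = 1 := by rw [← MonObj.comp_pow, hx, MonObj.comp_one]
  have hyW : (snd (P V K Ω) W ≫ wA) ^ N = 1 := by rw [← MonObj.comp_pow, hι, MonObj.comp_one]
  have hv : e.e (fst (P V K Ω) W ≫ x) (snd (P V K Ω) W ≫ wA) hxW hyW = 1 := by
    apply Units.ext
    refine eq_one_of_points f _ fun q hq => ?_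
    let q' : P V K Ω ⟶ P V K Ω ⊗ W := Over.homMk q (by
      rw [← Over.w (fst (P V K Ω) W), ← Category.assoc]
      change (q ≫ f) ≫ _ = _
      rw [hq, Category.id_comp])
    have hq1 : q' ≫ fst (P V K Ω) W = 𝟙 _ := by
      ext1
      exact hq
    have h2 := e.nat q' (fst (P V K Ω) W ≫ x) (snd (P V K Ω) W ≫ wA) hxW hyW
      (by rw [← MonObj.comp_pow, hxW, MonObj.comp_one]) (by rw [← MonObj.comp_pow, hyW, MonObj.comp_one])
    have h3 : e.e (q' ≫ fst (P V K Ω) W ≫ x) (q' ≫ snd (P V K Ω) W ≫ wA)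
      (by rw [← MonObj.comp_pow, hxW, MonObj.comp_one]) (by rw [← MonObj.comp_pow, hyW, MonObj.comp_one]) = 1 := by
      refine (TPair.e_congr e _ _ hx (by rw [← MonObj.comp_pow, hyW, MonObj.comp_one]) ?_ rfl).trans
        (h (q' ≫ snd (P V K Ω) W ≫ wA) (by rw [← MonObj.comp_pow, hyW, MonObj.comp_one]))
      rw [← Category.assoc, hq1, Category.id_comp]
    rw [h3] at h2
    exact (congrArg Units.val h2).symm
  obtain ⟨t, ht⟩ := exists_lift ((𝟙 A : A ⟶ A) ^ N) y (by rw [MonObj.comp_pow, Category.comp_id, hy])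
  have h4 := e.nat (lift g t) (fst (P V K Ω) W ≫ x) (snd (P V K Ω) W ≫ wA) hxW hyW
      (by rw [← MonObj.comp_pow, hxW, MonObj.comp_one]) (by rw [← MonObj.comp_pow, hyW, MonObj.comp_one])
  rw [hv, map_one] at h4
  refine (TPair.e_congr e _ _ _ _ ?_ ?_).trans h4
  · rw [lift_fst_assoc]
  · rw [lift_snd_assoc]
    exact ht.symm

end Orth

end

end K86.GenRad
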