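import Groth.Agent.AbDual.K732.PrincPol
import Groth.Agent.Sga7.H742.P1Core
import Groth.Agent.Sga3.H783.Dichotomy
import Groth.Agent.GrpSch.K269.QfKill
import Groth.Agent.Sga7.H301.NoGa
import Groth.Agent.Sga7.H758.AlgClosed
import Groth.Agent.AbSch.K449.Basic

/-!
# `K(M)` on an abelian variety: bounded `ℓ`-power torsion implies killed by an integer
-/

set_option autoImplicit false
universe u
open CategoryTheory CategoryTheory.Limits MonoidalCategory CartesianMonoidalCategory MonObj GrpObj AlgebraicGeometry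

namespace K86.KMKer

noncomputable section

open Groth.Agent Groth.Agent.Sga3B.KerGrp

/-- If the `ℓ`-power torsion points along which the Mumford bundle of `M` is trivial are bounded in number, then an
integer kills `K(M)`. -/
theorem exists_kill {k : Type u} [Field k] [IsAlgClosed k] (B : Over (Spec (CommRingCat.of k))) [GrpObj B]
    [IsProper B.hom] [GeometricallyIntegral B.hom] (M : B.left.Modules) (hM : PicF.IsInvertible M) (l : ℕ)
    (hl : l.Prime) (hlk : (l : k) ≠ 0) (C : ℕ)
    (hfin : ∀ m : ℕ, Finite {z : 𝟙_ (Over (Spec (CommRingCat.of k))) ⟶ B //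
      z ^ (l ^ m) = 1 ∧ ThetaGrp.IsMumfordTriv B M z})
    (hC : ∀ m : ℕ, Nat.card {z : 𝟙_ (Over (Spec (CommRingCat.of k))) ⟶ B //
      z ^ (l ^ m) = 1 ∧ ThetaGrp.IsMumfordTriv B M z} ≤ C) :
    ∃ n : ℕ, 0 < n ∧ ∀ {T : Over (Spec (CommRingCat.of k))} (z : T ⟶ B), ThetaGrp.IsMumfordTriv B M z → z ^ n = 1 := by
  have i1 := K449.Basic.smooth B
  have i2 := K732.Isog.geomConn_of_geomInt B.hom
  have i3 : IsCommMonObj B := isCommMonObj_of_isProper_of_geometricallyIntegral B
  obtain ⟨Bt, _, φ, i5, hD, i6, i7, i8, -⟩ := K732.DualField.exists_dual B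
  let lam := K732.Lam.lam φ (Groth.Agent.Grpsch.PicGrp.mk M hM)
  have hlam : ∀ {T : Over (Spec (CommRingCat.of k))} (x : T ⟶ B), x ≫ lam = 1 ↔ ThetaGrp.IsMumfordTriv B M x :=
    fun x => K732.PrincPol.comp_lam_eq_one_iff hD hM x
  have i9 : IsMonHom lam := K732.Lam.isMonHom_lam hD _
  obtain ⟨i10, i11⟩ := exists_grpObj lam
  have i12 : IsClosedImmersion (kerι lam).left := inferInstance
  have i13 : IsCommMonObj (kerObj lam) := Sga7.H758.AlgClosed.isCommMonObj_of_mono (kerι lam)
  have i14 : LocallyOfFiniteType (kerObj lam).hom := by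
    rw [← Over.w (kerι lam)]
    infer_instance
  have i15 : QuasiCompact (kerObj lam).hom := by
    rw [← Over.w (kerι lam)]
    infer_instance
  have hkl : ∀ {T : Over (Spec (CommRingCat.of k))} (x : T ⟶ kerObj lam),
      ThetaGrp.IsMumfordTriv B M (x ≫ kerι lam) := fun x => (hlam _).1 (by
    rw [Category.assoc, kerι_comp, MonObj.comp_one])
  have hfinK : IsFinite (kerObj lam).hom := by
    refine Sga7.H742.P1Core.isFinite_of_bounded_torsion k
      (fun U _ _ _ _ hU => Sga3.H783.Dichotomy.exists_hom_ga_or_gm k U hU) (kerObj lam) ?_ l hl hlk C ?_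
    · intro j hj hjc
      refine Sga7.H301.PGrp.noGa_of_universallyClosed (𝟙 (Spec (CommRingCat.of k))) (X := B)
        (gX := inferInstance) inferInstance (j ≫ kerι lam) inferInstance ?_
      rw [Over.comp_left]
      infer_instance
    · intro n s hs
      have := hfin n
      refine le_trans ?_ (hC n)
      have h0 : s.card = Nat.card s := by rw [Nat.card_eq_fintype_card, Fintype.card_coe]
      rw [h0]
      refine Nat.card_le_card_of_injective (fun x : s => (⟨x.1 ≫ kerι lam, ?_, hkl _⟩ :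
        {z : 𝟙_ (Over (Spec (CommRingCat.of k))) ⟶ B // z ^ (l ^ n) = 1 ∧ ThetaGrp.IsMumfordTriv B M z})) ?_
      · rw [← MonObj.pow_comp, hs x.1 x.2, MonObj.one_comp]
      · intro x y hxy
        exact Subtype.ext ((cancel_mono (kerι lam)).1 (congrArg (fun z => z.1) hxy))
  obtain ⟨n, hn, h⟩ := K269.QfKill.exists_pow_eq_one (kerObj lam)
  refine ⟨n, hn, fun {T} z hz => ?_⟩
  obtain ⟨t, rfl⟩ := exists_lift lam z ((hlam z).2 hz)
  rw [← MonObj.pow_comp]
  have h1 : t ^ n = 1 := by
    have h2 := congrArg (fun x => t ≫ x) h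
    simp only [MonObj.comp_pow, Category.comp_id, MonObj.comp_one] at h2
    exact h2
  rw [h1, MonObj.one_comp]

end

end K86.KMKer
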