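import Mathlib.LinearAlgebra.LinearIndependent.Lemmas
import Mathlib.FieldTheory.Finite.Basic
import Mathlib.LinearAlgebra.Dual.Lemmas
import Mathlib.GroupTheory.QuotientGroup.Basic
import Mathlib.GroupTheory.Index

/-!
# Counting radicals of pairings of finite abelian groups
-/

set_option autoImplicit false

namespace K86.PairCount

/-- A finite group has at most as many characters as elements. -/
theorem card_hom_le (G : Type*) [CommGroup G] [Finite G] (Ω : Type*) [Field Ω] :
    Finite (G →* Ωˣ) ∧ Nat.card (G →* Ωˣ) ≤ Nat.card G := by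
  classical
  have := Fintype.ofFinite G
  let f : (G →* Ωˣ) → (G → Ω) := fun χ g => (χ g : Ω)
  have hf : LinearIndependent Ω f := by
    have h1 := (linearIndependent_monoidHom G Ω).comp (fun χ : G →* Ωˣ => (Units.coeHom Ω).comp χ) (by
      intro χ χ' h
      ext g
      exact congrArg (fun φ : G →* Ω => φ g) h)
    exact h1
  have hfin : Finite (G →* Ωˣ) := hf.finite
  have := Fintype.ofFinite (G →* Ωˣ)
  refine ⟨hfin, ?_⟩
  rw [Nat.card_eq_fintype_card, Nat.card_eq_fintype_card]
  have h2 := hf.fintype_card_le_finrank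
  rwa [Module.finrank_fintype_fun_eq_card] at h2

variable {X Ω : Type*} [CommGroup X] [Finite X] [Field Ω]

/-- **Counting**: `F ≤ X` finite abelian, `e` a pairing on `X` with radical of order at most `C`, `|X| = |F| * t`; then the
radical of `e` on `F` has order at most `C * t`. -/
theorem card_rad_le (F : Subgroup X) (e : X →* X →* Ωˣ) (C t : ℕ) (hX : Nat.card X ≤ Nat.card F * t)
    (hC : Nat.card {y : X // ∀ x, e x y = 1} ≤ C) : Nat.card {x : X // x ∈ F ∧ ∀ y ∈ F, e x y = 1} ≤ C * t := by
  classical
  -- the orthogonal of `F`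
  let φ : X →* (F →* Ωˣ) := 
    { toFun := fun x => (e x).comp F.subtype
      map_one' := by ext; simp
      map_mul' := fun x y => by ext; simp }
  let O : Subgroup X := φ.ker
  -- `F` acts on `X / O`
  let R : Subgroup F := 
    { carrier := {y | ∀ x, e x y = 1}
      one_mem' := fun x => by simp
      mul_mem' := fun {a b} ha hb x => by rw [Subgroup.coe_mul, map_mul, ha, hb, mul_one]
      inv_mem' := fun {a} ha x => by rw [Subgroup.coe_inv, map_inv, ha, inv_one] }
  let ψ : F →* ((X ⧸ O) →* Ωˣ) :=
    { toFun := fun y => QuotientGroup.lift O (e.flip y) (fun x hx => by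
        have h1 : φ x = 1 := hx
        exact DFunLike.congr_fun h1 y)
      map_one' := by
        refine MonoidHom.ext fun q => ?_
        obtain ⟨x, rfl⟩ := QuotientGroup.mk_surjective q
        simp
      map_mul' := fun a b => by
        refine MonoidHom.ext fun q => ?_
        obtain ⟨x, rfl⟩ := QuotientGroup.mk_surjective q
        simp }
  have hψ : ψ.ker = R := by
    ext y
    constructor
    · intro h x
      have h1 : ψ y = 1 := h
      exact DFunLike.congr_fun h1 (QuotientGroup.mk x)
    · intro h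
      change ψ y = 1
      refine MonoidHom.ext fun q => ?_
      obtain ⟨x, rfl⟩ := QuotientGroup.mk_surjective q
      exact h x
  obtain ⟨h1, h2⟩ := card_hom_le (X ⧸ O) Ω
  have h3 : Nat.card (F ⧸ ψ.ker) ≤ Nat.card (X ⧸ O) :=
    (Nat.card_le_card_of_injective _ (QuotientGroup.kerLift_injective ψ)).trans h2
  have h4 : Nat.card F = Nat.card (F ⧸ ψ.ker) * Nat.card ψ.ker := Subgroup.card_eq_card_quotient_mul_card_subgroup _
  have h5 : Nat.card X = Nat.card (X ⧸ O) * Nat.card O := Subgroup.card_eq_card_quotient_mul_card_subgroup _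
  have h6 : Nat.card ψ.ker ≤ C := by
    rw [hψ]
    refine le_trans ?_ hC
    refine Nat.card_le_card_of_injective (fun y : R => (⟨(y : F), y.2⟩ : {y : X // ∀ x, e x y = 1})) ?_
    intro a b hab
    have h := Subtype.ext_iff.1 hab
    exact Subtype.ext (Subtype.ext h)
  have h7 : Nat.card {x : X // x ∈ F ∧ ∀ y ∈ F, e x y = 1} ≤ Nat.card O := by
    refine Nat.card_le_card_of_injective (fun x => (⟨x.1, ?_⟩ : O)) ?_
    · change φ x.1 = 1
      ext y
      exact congrArg Units.val (x.2.2 y y.2)
    · intro a b hab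
      have h := Subtype.ext_iff.1 hab
      exact Subtype.ext h
  refine h7.trans ?_
  have h8 : 0 < Nat.card (F ⧸ ψ.ker) := Nat.card_pos
  have h9 : Nat.card (F ⧸ ψ.ker) * Nat.card O ≤ Nat.card (F ⧸ ψ.ker) * (C * t) := by
    calc Nat.card (F ⧸ ψ.ker) * Nat.card O ≤ Nat.card (X ⧸ O) * Nat.card O := Nat.mul_le_mul_right _ h3
      _ = Nat.card X := h5.symm
      _ ≤ Nat.card F * t := hX
      _ = Nat.card (F ⧸ ψ.ker) * Nat.card ψ.ker * t := by rw [← h4]
      _ ≤ Nat.card (F ⧸ ψ.ker) * C * t := by gcongr
      _ = Nat.card (F ⧸ ψ.ker) * (C * t) := by ring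
  exact Nat.le_of_mul_le_mul_left h9 h8

end K86.PairCount
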