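import Groth.Agent.GrpSch.K86.KMPre
import Groth.Agent.GrpSch.K86.KMKer
import Groth.Agent.GrpSch.K86.PairCount

/-!
# Node (3.3) of S14306: finiteness of `K(M)` by the `ℓ`-adic count
-/

set_option autoImplicit false
universe u
open CategoryTheory CategoryTheory.Limits MonoidalCategory CartesianMonoidalCategory MonObj GrpObj AlgebraicGeometry
open K270.MB

namespace K86.KMFin

noncomputable section

open Groth.Agent K86.GenRad K86.KMPre

/-- The count at one level. -/
theorem card_le {V K : Type u} [CommRing V] [IsDomain V] [IsDiscreteValuationRing V] [HenselianLocalRing V] [Field K]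
    [Algebra V K] [IsFractionRing V K] [IsAlgClosed (IsLocalRing.ResidueField V)]
    (A : Over (Spec (CommRingCat.of V))) [GrpObj A] [IsCommMonObj A] (_ : Smooth A.hom) (_ : IsSeparated A.hom)
    (hgc : GeometricallyConnected A.hom) (hp : IsProper (Red.bc (sp (algebraMap V K)) A).hom)
    (T B : Over (Spec (CommRingCat.of (IsLocalRing.ResidueField V)))) [GrpObj T] [GrpObj B] (r : ℕ) (χ : Fin r → U T)
    (τ : T ⟶ Red.bc (sp (IsLocalRing.residue V)) A) (π : Red.bc (sp (IsLocalRing.residue V)) A ⟶ B)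
    (hs : IsSemiAb r χ τ π) (N : ℕ) (hN : (N : IsLocalRing.ResidueField V) ≠ 0)
    (Q : ∀ {T : Over (Spec (CommRingCat.of (IsLocalRing.ResidueField V)))}, (T ⟶ B) → Prop) (e : TPairing A N)
    (hskew : ∀ {T : Over (Spec (CommRingCat.of V))} (x y : T ⟶ A) (hx : x ^ N = 1) (hy : y ^ N = 1),
      e.e x y hx hy * e.e y x hy hx = 1)
    (Kl : Over (Spec (CommRingCat.of K))) (j : Kl ⟶ Red.bc (sp (algebraMap V K)) A)
    (_ : IsFinite Kl.hom)
    (hKl : ∀ {T : Over (Spec (CommRingCat.of K))} (x : T ⟶ Red.bc (sp (algebraMap V K)) A)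
      (hx : x ^ N = 1),
      (∀ {T' : Over (Spec (CommRingCat.of K))} (g : T' ⟶ T) (y : T' ⟶ Red.bc (sp (algebraMap V K)) A)
        (hy : y ^ N = 1) (hgx' : dn (sp (algebraMap V K)) (g ≫ x) ^ N = 1)
        (hy' : dn (sp (algebraMap V K)) y ^ N = 1),
        e.e (dn (sp (algebraMap V K)) (g ≫ x)) (dn (sp (algebraMap V K)) y) hgx' hy' = 1) → Fac j x)
    (hcl : ∀ {T : Over (Spec (CommRingCat.of (IsLocalRing.ResidueField V)))}
      (x y : T ⟶ Red.bc (sp (IsLocalRing.residue V)) A) (hx : x ^ N = 1) (hy : y ^ N = 1)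
      (hx' : dn (sp (IsLocalRing.residue V)) x ^ N = 1) (hy' : dn (sp (IsLocalRing.residue V)) y ^ N = 1),
      Q (x ≫ π) →
        e.e (dn (sp (IsLocalRing.residue V)) x) (dn (sp (IsLocalRing.residue V)) y) hx' hy' = 1) :
    Nat.card {z : 𝟙_ (Over (Spec (CommRingCat.of (IsLocalRing.ResidueField V)))) ⟶ B // z ^ N = 1 ∧ Q z} ≤
      Nat.card (Over.mk (sp (algebraMap K (AlgebraicClosure K))) ⟶ Kl) := by
  have hVs : EtCoh.IsStrictlyHenselianLocalRing V := ⟨inferInstance, inferInstance⟩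
  have hN0 : 0 < N := Nat.pos_of_ne_zero (by rintro rfl; exact hN Nat.cast_zero)
  let k := IsLocalRing.ResidueField V
  let Ω := AlgebraicClosure K
  let ρ : Spec (CommRingCat.of k) ⟶ Spec (CommRingCat.of V) := sp (IsLocalRing.residue V)
  let PΩ : Over (Spec (CommRingCat.of V)) := P V K Ω
  let O : Over (Spec (CommRingCat.of V)) := 𝟙_ (Over (Spec (CommRingCat.of V)))
  -- the integer is invertible
  have hNV : IsUnit (N : V) := by
    rw [← IsLocalRing.residue_ne_zero_iff_isUnit, map_natCast]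
    exact hN
  have hNΩ : (N : Ω) ≠ 0 := by
    have h1 := (hNV.map (algebraMap V K)).map (algebraMap K Ω)
    rw [map_natCast, map_natCast] at h1
    exact h1.ne_zero
  have het : Etale ((𝟙 A : A ⟶ A) ^ N).left := K125.Tors.etale_pow A hNV
  -- dimensions
  have hft : LocallyOfFiniteType (Red.bc ρ A).hom := by
    change LocallyOfFiniteType (pullback.snd A.hom ρ)
    infer_instance
  obtain ⟨a, ha⟩ := SemiCount.exists_dim hs
  obtain ⟨d, hd⟩ := K125.Rk.exists_dim_at A (IsLocalRing.closedPoint V)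
  have hd1 : d = a + r := by
    have h1 := hd k ρ (specializes_of_eq (IsLocalRing.comap_closedPoint (IsLocalRing.residue V)))
    rw [SemiCount.dim_G hs ha] at h1
    exact_mod_cast h1.symm
  have hd2 := hd Ω (sp (algebraMap K Ω) ≫ sp (algebraMap V K)) (IsLocalRing.specializes_closedPoint _)
  -- cardinalities
  have hX : Nat.card {x : PΩ ⟶ A // x ^ N = 1} = N ^ (2 * d) := card_X hgc hp hd2 N hNΩ
  have hG : Nat.card {x : 𝟙_ (Over (Spec (CommRingCat.of k))) ⟶ Red.bc ρ A // x ^ N = 1} = N ^ (2 * a + r) :=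
    SemiCount.card_G hs ha N hN
  -- lifts
  choose L hL1 hL2 using fun x : {x : 𝟙_ (Over (Spec (CommRingCat.of k))) ⟶ Red.bc ρ A // x ^ N = 1} =>
    Sga7.H274.TorsLift.exists_torsion_lift hVs A N ρ (IsLocalRing.comap_closedPoint (IsLocalRing.residue V)) x.1 x.2
  let α : (O ⟶ A) →* (PΩ ⟶ A) := Sga7.H620.Special.preHom A (toUnit PΩ)
  have hαinj : ∀ w w' : O ⟶ A, α w = α w' → w = w' := fun w w' h => KMPre.inj w w' h
  have hXfin : Finite (tors A PΩ N) := Nat.finite_of_card_ne_zero (by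
    have h1 : Nat.card (tors A PΩ N) = N ^ (2 * d) := hX
    rw [h1]
    exact pow_ne_zero _ hN0.ne')
  -- the subgroup
  let F : Subgroup (tors A PΩ N) :=
    { carrier := {x | ∃ w : O ⟶ A, w ^ N = 1 ∧ α w = x.1}
      one_mem' := ⟨1, one_pow N, map_one α⟩
      mul_mem' := by
        rintro x y ⟨w, hw, hw'⟩ ⟨w₁, hw₁, hw₁'⟩
        refine ⟨w * w₁, ?_, ?_⟩
        · rw [_root_.mul_pow, hw, hw₁, _root_.one_mul]
        · rw [map_mul, hw', hw₁']
          rfl
      inv_mem' := by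
        rintro x ⟨w, hw, hw'⟩
        refine ⟨w⁻¹, ?_, ?_⟩
        · rw [inv_pow, hw, _root_.inv_one]
        · rw [map_inv, hw']
          rfl }
  have hαN : ∀ w : O ⟶ A, w ^ N = 1 → (α w) ^ N = 1 := fun w hw => by rw [← map_pow, hw, map_one]
  let J : {x : 𝟙_ (Over (Spec (CommRingCat.of k))) ⟶ Red.bc ρ A // x ^ N = 1} → F := fun x =>
    ⟨⟨α (L x), hαN _ (hL1 x)⟩, ⟨L x, hL1 x, rfl⟩⟩
  have hJ : Function.Injective J := by
    intro x x' h
    have h1 : α (L x) = α (L x') := congrArg (fun z : F => z.1.1) h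
    have h2 := hαinj _ _ h1
    apply Subtype.ext
    rw [← hL2 x, ← hL2 x', h2]
  have hF : N ^ (2 * a + r) ≤ Nat.card F := by
    rw [← hG]
    exact Nat.card_le_card_of_injective J hJ
  have hXF : Nat.card (tors A PΩ N) ≤ Nat.card F * N ^ r := by
    have h1 : Nat.card (tors A PΩ N) = N ^ (2 * d) := hX
    rw [h1, hd1]
    calc N ^ (2 * (a + r)) = N ^ (2 * a + r) * N ^ r := by rw [← pow_add]; congr 1; ring
      _ ≤ Nat.card F * N ^ r := Nat.mul_le_mul_right _ hF
  -- the pairing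
  let φ : Γ(PΩ.left, ⊤) →+* Ω := (Scheme.ΓSpecIso (CommRingCat.of Ω)).hom.hom
  have hφ : Function.Injective φ := (ConcreteCategory.bijective_of_isIso (Scheme.ΓSpecIso (CommRingCat.of Ω)).hom).1
  have hKfin : Finite (Over.mk (sp (algebraMap K Ω)) ⟶ Kl) := finite_hom Kl
  have hrad : Nat.card {y : tors A PΩ N // ∀ x, pair e φ x y = 1} ≤ Nat.card (Over.mk (sp (algebraMap K Ω)) ⟶ Kl) := by
    have hy : ∀ y : {y : tors A PΩ N // ∀ x, pair e φ x y = 1}, Fac j (upp (sp (algebraMap V K)) y.1.1) := by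
      rintro ⟨⟨y, hyN⟩, hy⟩
      have hyN' : y ^ N = 1 := hyN
      refine hKl _ (by
        apply dn_inj (sp (algebraMap V K))
        rw [dn_pow, dn_upp, hyN', dn_one]) ?_
      intro T' g y' hy' hgx' hy''
      have h1 : ∀ (x : PΩ ⟶ A) (hx : x ^ N = 1), e.e y x hyN' hx = 1 := by
        intro x hx
        have h2 := hy ⟨x, hx⟩
        rw [pair_apply] at h2
        have h3 : e.e x y hx hyN' = 1 := by
          apply Units.ext
          apply hφ
          have h4 := congrArg Units.val h2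
          refine Eq.trans h4 ?_
          exact (map_one φ).symm
        have h5 := hskew x y hx hyN'
        rw [h3, _root_.one_mul] at h5
        exact h5
      have h6 : dn (sp (algebraMap V K)) (g ≫ upp (sp (algebraMap V K)) y) =
          (Over.map (sp (algebraMap V K))).map g ≫ y := by rw [dn_comp, dn_upp]
      refine (TPair.e_congr e _ _ (by rw [← h6]; exact hgx') hy'' h6 rfl).trans ?_
      exact orth het e y hyN' h1 _ _ _ _
    choose z hz using hy
    refine Nat.card_le_card_of_injective z ?_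
    intro y y' h
    have h1 : upp (sp (algebraMap V K)) y.1.1 = upp (sp (algebraMap V K)) y'.1.1 := by rw [← hz y, ← hz y', h]
    have h2 := congrArg (dn (sp (algebraMap V K))) h1
    rw [dn_upp, dn_upp] at h2
    exact Subtype.ext (Subtype.ext h2)
  have hcount := PairCount.card_rad_le F (pair e φ) _ _ hXF hrad
  -- the closed fibre
  have hR : Nat.card {x : 𝟙_ (Over (Spec (CommRingCat.of k))) ⟶ Red.bc ρ A // x ^ N = 1 ∧ Q (x ≫ π)} ≤
      Nat.card {x : tors A PΩ N // x ∈ F ∧ ∀ y ∈ F, pair e φ x y = 1} := by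
    refine Nat.card_le_card_of_injective (fun x =>
      (⟨(J ⟨x.1, x.2.1⟩).1, (J ⟨x.1, x.2.1⟩).2, ?_⟩ : {x : tors A PΩ N // x ∈ F ∧ ∀ y ∈ F, pair e φ x y = 1})) ?_
    · rintro ⟨y, hyN⟩ ⟨w', hw', rfl⟩
      rw [pair_apply]
      let w := L ⟨x.1, x.2.1⟩
      have hw : w ^ N = 1 := hL1 _
      have h1 : e.e w w' hw hw' = 1 := by
        refine unit_eq_one hN _ (TPair.e_pow e _ _ _ _) ?_
        have h2 := e.nat (toUnit ((Over.map (sp (IsLocalRing.residue V))).obj
          (𝟙_ (Over (Spec (CommRingCat.of (IsLocalRing.ResidueField V))))))) w w' hw hw'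
          (by rw [← MonObj.comp_pow, hw, MonObj.comp_one]) (by rw [← MonObj.comp_pow, hw', MonObj.comp_one])
        rw [← h2]
        have h3 : x.1 ^ N = 1 := x.2.1
        have h4 : dn ρ x.1 = toUnit _ ≫ w := by
          rw [← hL2 ⟨x.1, x.2.1⟩]
          exact TPair.dn_bcPt ρ _
        have h5 : dn ρ (Sga7.H620.Neutral.bcPt ρ A w') = toUnit _ ≫ w' := TPair.dn_bcPt ρ _
        refine (TPair.e_congr e _ _ (TPair.dn_pow_eq_one ρ h3)
          (TPair.dn_pow_eq_one ρ (by rw [← map_pow, hw', map_one])) h4.symm h5.symm).trans ?_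
        exact hcl x.1 _ h3 (by rw [← map_pow, hw', map_one]) _ _ x.2.2
      have h6 := e.nat (toUnit PΩ) w w' hw hw' (hαN w hw) (hαN w' hw')
      rw [h1, map_one] at h6
      have h7 : e.e (α w) (α w') (hαN w hw) (hαN w' hw') = 1 := h6
      exact (congrArg (Units.map (φ : Γ(PΩ.left, ⊤) →* Ω)) h7).trans (map_one _)
    · intro x x' h
      have h1 : J ⟨x.1, x.2.1⟩ = J ⟨x'.1, x'.2.1⟩ := Subtype.ext (congrArg (fun z => z.1) h)
      have h2 := hJ h1
      exact Subtype.ext (congrArg (fun z => z.1) h2)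
  have h8 := SemiCount.card_pre hs N hN (fun z => Q z)
  exact Nat.le_of_mul_le_mul_right (h8.trans (hR.trans hcount)) (pow_pos hN0 r)

/-- **Node (3.3).** -/
theorem main : K270.MB.NodeKMFin.{u} := by
  intro V K _ _ _ _ _ _ _ _ A _ _ h1 h2 h3 h4 h5 h6 T B _ _ r χ τ π hs l hl hlk M hM e hskew Kl _ j hj hKlf hKl hcl
  have i1 := hs.proper
  have i2 := hs.gi
  obtain ⟨a, ha⟩ := SemiCount.exists_dim hs
  have hN : ∀ m : ℕ, ((l ^ m : ℕ) : IsLocalRing.ResidueField V) ≠ 0 := fun m => by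
    rw [Nat.cast_pow]
    exact pow_ne_zero _ hlk
  refine KMKer.exists_kill B M hM l hl hlk (Nat.card (Over.mk (sp (algebraMap K (AlgebraicClosure K))) ⟶ Kl))
    (fun m => ?_) (fun m => ?_)
  · have h7 : Finite {z : 𝟙_ (Over (Spec (CommRingCat.of (IsLocalRing.ResidueField V)))) ⟶ B // z ^ (l ^ m) = 1} := by
      refine Nat.finite_of_card_ne_zero ?_
      have h8 := Etcore.AbTors.card_torsion B a ha (l ^ m) (hN m)
      refine (ne_of_eq_of_ne h8 ?_)
      exact pow_ne_zero _ (pow_ne_zero _ hl.ne_zero)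
    exact Finite.of_injective (fun z => (⟨z.1, z.2.1⟩ :
      {z : 𝟙_ (Over (Spec (CommRingCat.of (IsLocalRing.ResidueField V)))) ⟶ B // z ^ (l ^ m) = 1}))
      fun x y hxy => Subtype.ext (congrArg (fun z => z.1) hxy)
  · exact card_le A h1 h2 h4 h6 T B r χ τ π hs (l ^ m) (hN m) (ThetaGrp.IsMumfordTriv B M) (e m) (hskew m) Kl j hKlf
      (hKl m) (hcl m)

end

end K86.KMFin
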