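import Groth.Agent.GrpSch.K86.NodeSemiAb
import Groth.Agent.Neron.K125.RkCount

/-!
# Torsion points of semi-abelian varieties `1 ⟶ 𝔾_m^r ⟶ G ⟶ B ⟶ 1` over an algebraically closed field
-/

set_option autoImplicit false
universe u
open CategoryTheory CategoryTheory.Limits MonoidalCategory CartesianMonoidalCategory MonObj GrpObj AlgebraicGeometry
open K270.MB

namespace K86.SemiCount

noncomputable section

open Groth.Agent

section Ker

variable {k : Type u} [Field k] {G T B : Over (Spec (CommRingCat.of k))} [GrpObj G]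
  [GrpObj T] [GrpObj B] {r : ℕ} {χ : Fin r → U T} {τ : T ⟶ G} {π : G ⟶ B}

theorem mono (h : IsSemiAb r χ τ π) : Mono τ := by
  have := h.sub.closed
  have h1 : Mono τ.left := inferInstance
  exact Over.mono_of_mono_left τ

theorem isKernel (h : IsSemiAb r χ τ π) : AlgGrp.IsKernel τ π := by
  have hm := mono h
  have hw : τ ≫ π = toUnit T ≫ η[B] := by
    rw [(h.ker τ).1 ⟨𝟙 _, Category.id_comp _⟩, Hom.one_def]
  have hs (s : PullbackCone π η[B]) : ∃ l : s.pt ⟶ T, l ≫ τ = s.fst := by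
    refine (h.ker s.fst).2 ?_
    rw [s.condition, Hom.one_def]
    congr 1
    exact toUnit_unique _ _
  refine ⟨⟨hw⟩, ⟨PullbackCone.IsLimit.mk hw (fun s => (hs s).choose) (fun s => (hs s).choose_spec)
    (fun s => toUnit_unique _ _) fun s m hm1 _ => ?_⟩⟩
  rw [← cancel_mono τ, hm1, (hs s).choose_spec]

theorem isTorus (h : IsSemiAb r χ τ π) : Red.IsTorus T :=
  Sga3B.RG.BrTorus.isTorus_of_isSplitTorusWith (K86.GmPow.isSplit h.gm)

theorem ft_T [LocallyOfFiniteType G.hom] (h : IsSemiAb r χ τ π) : LocallyOfFiniteType T.hom := by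
  have := h.sub.closed
  rw [← Over.w τ]
  infer_instance

end Ker

variable {k : Type u} [Field k] [IsAlgClosed k] {G T B : Over (Spec (CommRingCat.of k))} [GrpObj G] [IsCommMonObj G]
  [GrpObj T] [GrpObj B] {r : ℕ} {χ : Fin r → U T} {τ : T ⟶ G} {π : G ⟶ B}

omit [IsAlgClosed k] [IsCommMonObj G] in
theorem dim_T (h : IsSemiAb r χ τ π) : topologicalKrullDim T.left = r :=
  Sga3.H816.TorusDim.topologicalKrullDim_of_split (K86.GmPow.isSplit h.gm)

omit [IsAlgClosed k] [IsCommMonObj G] in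
theorem exists_dim (h : IsSemiAb r χ τ π) : ∃ a : ℕ, topologicalKrullDim B.left = a := by
  have h1 := h.proper
  have h2 := h.gi
  have hQint : IsIntegral B.left := GeometricallyIntegral.isIntegral_of_subsingleton B.hom
  let _ : B.left.Over (Spec (CommRingCat.of k)) := ⟨B.hom⟩
  have : LocallyOfFiniteType (B.left ↘ Spec (CommRingCat.of k)) := inferInstanceAs (LocallyOfFiniteType B.hom)
  exact ⟨_, Groth.Agent.VarietyB.DimSch.topologicalKrullDim_eq_trd k⟩

omit [IsCommMonObj G] in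
theorem dim_G [LocallyOfFiniteType G.hom] (h : IsSemiAb r χ τ π) {a : ℕ} (ha : topologicalKrullDim B.left = a) :
    topologicalKrullDim G.left = ((a + r : ℕ) : WithBot ℕ∞) := by
  have h1 := h.proper
  have h2 := ft_T h
  have h3 := h.sub.mon
  have h4 := h.mon
  have h5 := h.flat
  rw [Sga7.H620.TorsCount.dim_add τ π (isKernel h), ha, dim_T h]
  push_cast
  rfl

omit [IsCommMonObj G] in
theorem card_T (h : IsSemiAb r χ τ π) (n : ℕ) (hn : (n : k) ≠ 0) :
    Nat.card {x : 𝟙_ (Over (Spec (CommRingCat.of k))) ⟶ T // x ^ n = 1} = n ^ r :=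
  K530.TorPts.card_torsion (isTorus h) n hn r (dim_T h)

omit [IsCommMonObj G] in
theorem exists_pt [LocallyOfFiniteType G.hom] (h : IsSemiAb r χ τ π)
    (y : 𝟙_ (Over (Spec (CommRingCat.of k))) ⟶ B) : ∃ x : 𝟙_ (Over (Spec (CommRingCat.of k))) ⟶ G, x ≫ π = y := by
  have h1 := h.proper
  have h2 := h.surj
  exact Sga7.H620.Rosenlicht.exists_lift_pt π y

theorem card_G [LocallyOfFiniteType G.hom] (h : IsSemiAb r χ τ π) {a : ℕ} (ha : topologicalKrullDim B.left = a)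
    (n : ℕ) (hn : (n : k) ≠ 0) :
    Nat.card {x : 𝟙_ (Over (Spec (CommRingCat.of k))) ⟶ G // x ^ n = 1} = n ^ (2 * a + r) := by
  have hn0 : 0 < n := Nat.pos_of_ne_zero (by rintro rfl; exact hn Nat.cast_zero)
  have hm := mono h
  have h1 := h.proper
  have h2 := h.gi
  have h3 := h.sub.mon
  have h4 := h.mon
  rw [K125.Rk.card_of_kernel τ π (isKernel h) n (fun x => K530.TorPts.exists_pow_eq (isTorus h) n hn0 x)
    (exists_pt h), card_T h n hn, pow_add, _root_.mul_comm]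
  congr 1
  exact Etcore.AbTors.card_torsion B a ha n hn

/-- A torsion point of `B` lifts to a torsion point of `G`. -/
theorem exists_tors_lift [LocallyOfFiniteType G.hom] (h : IsSemiAb r χ τ π) {n : ℕ} (hn : 0 < n)
    (z : 𝟙_ (Over (Spec (CommRingCat.of k))) ⟶ B) (hz : z ^ n = 1) :
    ∃ x : 𝟙_ (Over (Spec (CommRingCat.of k))) ⟶ G, x ^ n = 1 ∧ x ≫ π = z := by
  have h3 := h.sub.mon
  have h4 := h.mon
  obtain ⟨g, hg⟩ := exists_pt h z
  obtain ⟨x, hx⟩ := (h.ker (g ^ n)).2 (by rw [MonObj.pow_comp, hg, hz])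
  obtain ⟨y, rfl⟩ := K530.TorPts.exists_pow_eq (isTorus h) n hn x
  refine ⟨g * (y ≫ τ)⁻¹, ?_, ?_⟩
  · rw [MonObj.pow_comp] at hx
    rw [_root_.mul_pow, inv_pow, hx, mul_inv_cancel]
  · rw [MonObj.mul_comp, GrpObj.inv_comp, (h.ker (y ≫ τ)).1 ⟨y, rfl⟩, _root_.inv_one, _root_.mul_one, hg]

/-- Counting the torsion points of `G` over a set of torsion points of `B`. -/
theorem card_pre [LocallyOfFiniteType G.hom] (h : IsSemiAb r χ τ π) (n : ℕ) (hn : (n : k) ≠ 0)
    (Q : (𝟙_ (Over (Spec (CommRingCat.of k))) ⟶ B) → Prop) :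
    Nat.card {z : 𝟙_ (Over (Spec (CommRingCat.of k))) ⟶ B // z ^ n = 1 ∧ Q z} * n ^ r ≤
      Nat.card {x : 𝟙_ (Over (Spec (CommRingCat.of k))) ⟶ G // x ^ n = 1 ∧ Q (x ≫ π)} := by
  have hn0 : 0 < n := Nat.pos_of_ne_zero (by rintro rfl; exact hn Nat.cast_zero)
  have h3 := h.sub.mon
  have h4 := h.mon
  have hm := mono h
  obtain ⟨a, ha⟩ := exists_dim h
  have hfin : Finite {x : 𝟙_ (Over (Spec (CommRingCat.of k))) ⟶ G // x ^ n = 1} :=
    Nat.finite_of_card_ne_zero (by rw [card_G h ha n hn]; exact pow_ne_zero _ hn0.ne')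
  have hfin' : Finite {x : 𝟙_ (Over (Spec (CommRingCat.of k))) ⟶ G // x ^ n = 1 ∧ Q (x ≫ π)} :=
    Finite.of_injective (fun x => (⟨x.1, x.2.1⟩ : {x : 𝟙_ (Over (Spec (CommRingCat.of k))) ⟶ G // x ^ n = 1}))
      fun x y hxy => Subtype.ext (congrArg (fun z => z.1) hxy)
  choose s hs1 hs2 using fun z : {z : 𝟙_ (Over (Spec (CommRingCat.of k))) ⟶ B // z ^ n = 1 ∧ Q z} =>
    exists_tors_lift h hn0 z.1 z.2.1
  have hτ (t : 𝟙_ (Over (Spec (CommRingCat.of k))) ⟶ T) : (t ≫ τ) ≫ π = 1 := (h.ker _).1 ⟨t, rfl⟩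
  rw [← card_T h n hn, ← Nat.card_prod]
  refine Nat.card_le_card_of_injective
    (fun p => (⟨s p.1 * (p.2.1 ≫ τ), ?_, ?_⟩ :
      {x : 𝟙_ (Over (Spec (CommRingCat.of k))) ⟶ G // x ^ n = 1 ∧ Q (x ≫ π)})) ?_
  · rw [_root_.mul_pow, hs1, ← MonObj.pow_comp, p.2.2, MonObj.one_comp, _root_.one_mul]
  · rw [MonObj.mul_comp, hs2, hτ, _root_.mul_one]
    exact p.1.2.2
  · rintro ⟨z, t⟩ ⟨z', t'⟩ hzt
    have h1 : s z * (t.1 ≫ τ) = s z' * (t'.1 ≫ τ) := Subtype.ext_iff.1 hzt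
    have h2 : z = z' := by
      have h5 := congrArg (fun x => x ≫ π) h1
      simp only [MonObj.mul_comp, hs2, hτ, _root_.mul_one] at h5
      exact Subtype.ext h5
    subst h2
    have h6 := (cancel_mono τ).1 (mul_left_cancel h1)
    rw [Subtype.ext h6]

end

end K86.SemiCount
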