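import Groth.Agent.GrpSch.K86.GenRad
import Groth.Agent.GrpSch.K86.SemiCount
import Groth.Agent.Neron.K125.Tors
import Groth.Agent.Neron.K125.RkFib

/-!
# Preparations for the `ℓ`-adic count over a henselian discrete valuation ring
-/

set_option autoImplicit false
universe u
open CategoryTheory CategoryTheory.Limits MonoidalCategory CartesianMonoidalCategory MonObj GrpObj AlgebraicGeometry
open K270.MB

namespace K86.KMPre

noncomputable section

open Groth.Agent K86.GenRad

section Unit

variable {V : Type u} [CommRing V] [IsLocalRing V]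

/-- A root of unity of order invertible in the residue field which reduces to `1` is `1`. -/
theorem eq_one_of_residue {N : ℕ} (hN : (N : IsLocalRing.ResidueField V) ≠ 0) (x : V) (hx : x ^ N = 1)
    (h : IsLocalRing.residue V x = 1) : x = 1 := by
  have h1 : (∑ i ∈ Finset.range N, x ^ i) * (x - 1) = 0 := by rw [geom_sum_mul, hx, sub_self]
  have h2 : IsUnit (∑ i ∈ Finset.range N, x ^ i) := by
    rw [← IsLocalRing.residue_ne_zero_iff_isUnit]
    rw [map_sum]
    simp only [map_pow, h, one_pow]
    simpa using hN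
  exact sub_eq_zero.1 ((h2.mul_right_eq_zero).1 h1)

theorem toUnit_left (t : Spec (CommRingCat.of (IsLocalRing.ResidueField V)) ⟶ Spec (CommRingCat.of V)) :
    (toUnit ((Over.map t).obj (𝟙_ (Over (Spec (CommRingCat.of (IsLocalRing.ResidueField V))))))).left = t := by
  have h1 := Over.w (toUnit ((Over.map t).obj (𝟙_ (Over (Spec (CommRingCat.of (IsLocalRing.ResidueField V)))))))
  have h2 : ((Over.map t).obj (𝟙_ (Over (Spec (CommRingCat.of (IsLocalRing.ResidueField V)))))).hom = t := by
    change 𝟙 _ ≫ t = t
    rw [Category.id_comp]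
  rw [h2] at h1
  exact (Category.comp_id _).symm.trans h1

theorem unit_core {N : ℕ} (hN : (N : IsLocalRing.ResidueField V) ≠ 0) (v : Γ(Spec (CommRingCat.of V), ⊤))
    (hv : v ^ N = 1) (h : (sp (IsLocalRing.residue V)).appTop v = 1) : v = 1 := by
  have h1 : (Scheme.ΓSpecIso (CommRingCat.of V)).hom v = 1 := by
    refine eq_one_of_residue hN _ ?_ ?_
    · have h2 := congrArg (Scheme.ΓSpecIso (CommRingCat.of V)).hom hv
      rw [map_pow, map_one] at h2
      exact h2
    · have h6 := congrArg (fun f => f.hom v) (Scheme.ΓSpecIso_naturality (CommRingCat.ofHom (IsLocalRing.residue V)))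
      have h7 : (Scheme.ΓSpecIso (CommRingCat.of (IsLocalRing.ResidueField V))).hom
        ((sp (IsLocalRing.residue V)).appTop v) =
        IsLocalRing.residue V ((Scheme.ΓSpecIso (CommRingCat.of V)).hom v) := h6
      rw [h, map_one] at h7
      exact h7.symm
  have h8 : Function.Injective (Scheme.ΓSpecIso (CommRingCat.of V)).hom :=
    (ConcreteCategory.bijective_of_isIso (Scheme.ΓSpecIso (CommRingCat.of V)).hom).1
  apply h8
  rw [h1]
  exact (map_one _).symm

/-- The same for the invertible functions on `Spec V`. -/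
theorem unit_eq_one {N : ℕ} (hN : (N : IsLocalRing.ResidueField V) ≠ 0)
    (v : U (𝟙_ (Over (Spec (CommRingCat.of V))))) (hv : v ^ N = 1)
    (h : ures (toUnit ((Over.map (sp (IsLocalRing.residue V))).obj
      (𝟙_ (Over (Spec (CommRingCat.of (IsLocalRing.ResidueField V))))))) v = 1) : v = 1 := by
  apply Units.ext
  refine unit_core hN v.val ?_ ?_
  · have h2 := congrArg Units.val hv
    rw [Units.val_pow_eq_pow_val, Units.val_one] at h2
    exact h2
  · have h2 : (toUnit ((Over.map (sp (IsLocalRing.residue V))).obj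
        (𝟙_ (Over (Spec (CommRingCat.of (IsLocalRing.ResidueField V))))))).left.appTop v.val = 1 := congrArg Units.val h
    have h5 : ∀ (f g : Spec (CommRingCat.of (IsLocalRing.ResidueField V)) ⟶ Spec (CommRingCat.of V))
        (x : Γ(Spec (CommRingCat.of V), ⊤)), f = g → f.appTop x = 1 → g.appTop x = 1 := by
      rintro f _ x rfl h
      exact h
    exact h5 _ _ v.val (toUnit_left (sp (IsLocalRing.residue V))) h2

end Unit

section Inj

variable {V K : Type u} [CommRing V] [IsDomain V] [Field K] [Algebra V K] [IsFractionRing V K] {Ω : Type u} [Field Ω]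
  [Algebra K Ω]

/-- A section is determined by its value at a geometric generic point. -/
theorem inj {A : Over (Spec (CommRingCat.of V))} [IsSeparated A.hom] (w w' : 𝟙_ (Over (Spec (CommRingCat.of V))) ⟶ A)
    (h : toUnit (P V K Ω) ≫ w = toUnit (P V K Ω) ≫ w') : w = w' := by
  have h1 : (toUnit (P V K Ω)).left = sp (algebraMap K Ω) ≫ sp (algebraMap V K) :=
    (Category.comp_id _).symm.trans (Over.w (toUnit (P V K Ω)))
  have h2 : (toUnit (P V K Ω)).left = Spec.map (CommRingCat.ofHom ((algebraMap K Ω).comp (algebraMap V K))) := by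
    rw [h1, CommRingCat.ofHom_comp, Spec.map_comp]
  have hd : IsDominant (toUnit (P V K Ω)).left := by
    rw [h2, isDominant_iff]
    change DenseRange (PrimeSpectrum.comap ((algebraMap K Ω).comp (algebraMap V K)))
    rw [PrimeSpectrum.denseRange_comap_iff_ker_le_nilRadical]
    intro x hx
    have h3 : algebraMap K Ω (algebraMap V K x) = 0 := hx
    rw [map_eq_zero] at h3
    have h4 : x = 0 := (IsFractionRing.injective V K) (by rw [h3, map_zero])
    rw [h4]
    exact zero_mem _
  have hr : IsReduced (𝟙_ (Over (Spec (CommRingCat.of V)))).left :=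
    inferInstanceAs (IsReduced (Spec (CommRingCat.of V)))
  ext1
  refine ext_of_isDominant_of_isSeparated A.hom ?_ (toUnit (P V K Ω)).left ?_
  · rw [Over.w w, Over.w w']
  · rw [← Over.comp_left, h, Over.comp_left]

end Inj

section Card

variable {V K : Type u} [CommRing V] [Field K] [Algebra V K] {Ω : Type u} [Field Ω] [IsAlgClosed Ω]
  [Algebra K Ω]

/-- The number of torsion points of the geometric generic fibre. -/
theorem card_X {A : Over (Spec (CommRingCat.of V))} [GrpObj A] [Smooth A.hom] (hgc : GeometricallyConnected A.hom)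
    (hp : IsProper (Red.bc (sp (algebraMap V K)) A).hom) {g : ℕ}
    (hg : topologicalKrullDim (Red.bc (sp (algebraMap K Ω) ≫ sp (algebraMap V K)) A).left = g) (n : ℕ)
    (hn : (n : Ω) ≠ 0) : Nat.card {x : P V K Ω ⟶ A // x ^ n = 1} = n ^ (2 * g) := by
  let t : Spec (CommRingCat.of Ω) ⟶ Spec (CommRingCat.of V) := sp (algebraMap K Ω) ≫ sp (algebraMap V K)
  have h1 : IsProper (pullback.snd A.hom (sp (algebraMap V K))) := hp
  have h2 : IsProper (Red.bc t A).hom := by
    change IsProper (pullback.snd A.hom (sp (algebraMap K Ω) ≫ sp (algebraMap V K)))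
    rw [← pullbackLeftPullbackSndIso_inv_snd_snd]
    infer_instance
  have h3 : Smooth (Red.bc t A).hom := by
    change Smooth (pullback.snd A.hom t)
    infer_instance
  have h4 : ConnectedSpace (Red.bc t A).left :=
    hgc.1 t (pullback.fst A.hom t) (pullback.snd A.hom t) (IsPullback.of_hasPullback _ _)
  have h5 : GeometricallyIntegral (Red.bc t A).hom :=
    Sga7.H620.TorsCount.geometricallyIntegral_of_smooth_connected (Red.bc t A)
  have h6 := Etcore.AbTors.card_torsion (Red.bc t A) g hg n hn
  rw [← h6]
  let i : (Over.map t).obj (𝟙_ (Over (Spec (CommRingCat.of Ω)))) ≅ P V K Ω :=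
    Over.isoMk (Iso.refl _) (by
      change 𝟙 _ ≫ (sp (algebraMap K Ω) ≫ sp (algebraMap V K)) = 𝟙 _ ≫ t
      rfl)
  let E : (P V K Ω ⟶ A) ≃* (𝟙_ (Over (Spec (CommRingCat.of Ω))) ⟶ Red.bc t A) :=
    (K125.Tors.preE i A).trans (TPair.dnE t).symm
  exact Nat.card_congr (E.toEquiv.subtypeEquiv fun x => by
    constructor
    · intro hx
      change E x ^ n = 1
      rw [← map_pow, hx, map_one]
    · intro hx
      have hx' : E x ^ n = 1 := hx
      apply E.injective
      rw [map_pow, hx', map_one])

end Card

section Pairing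

variable {S : Scheme.{u}} {A Q : Over S} [GrpObj A] [IsCommMonObj A] {N : ℕ} (e : TPairing A N) {E : Type u}
  [CommRing E] (φ : Γ(Q.left, ⊤) →+* E)

variable (Q A N) in
/-- The `N`-torsion points. -/
abbrev tors : Subgroup (Q ⟶ A) := (powMonoidHom N : (Q ⟶ A) →* (Q ⟶ A)).ker

/-- The pairing on the torsion points. -/
def pair : tors A Q N →* tors A Q N →* Eˣ where
  toFun x :=
    { toFun := fun y => Units.map (φ : Γ(Q.left, ⊤) →* E) (e.e x.1 y.1 x.2 y.2)
      map_one' := by
        rw [← map_one (Units.map (φ : Γ(Q.left, ⊤) →* E))]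
        congr 1
        exact TPair.e_one_right e _ _ _
      map_mul' := fun y y' => by
        rw [← map_mul]
        congr 1
        exact e.mul_right _ _ _ _ _ _ _ }
  map_one' := by
    refine MonoidHom.ext fun y => ?_
    change Units.map (φ : Γ(Q.left, ⊤) →* E) _ = 1
    rw [← map_one (Units.map (φ : Γ(Q.left, ⊤) →* E))]
    congr 1
    exact TPair.e_one_left e _ _ _
  map_mul' x x' := by
    refine MonoidHom.ext fun y => ?_
    change Units.map (φ : Γ(Q.left, ⊤) →* E) _ = Units.map (φ : Γ(Q.left, ⊤) →* E) _ * Units.map (φ : Γ(Q.left, ⊤) →* E) _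
    rw [← map_mul]
    congr 1
    exact e.mul_left _ _ _ _ _ _ _

theorem pair_apply (x y : tors A Q N) :
    pair e φ x y = Units.map (φ : Γ(Q.left, ⊤) →* E) (e.e x.1 y.1 x.2 y.2) := rfl

end Pairing

end

end K86.KMPre
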