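import Groth.Agent.GrpSch.K86.GmPow
import Groth.Agent.Sga7.H109.Struct
import Groth.Agent.Sga7.H301.NoGa
import Groth.Agent.Sga3.H780.Pointed

/-!
# Node (3.0) of S14306: smooth connected commutative groups without `𝔾_a` are semi-abelian
-/

set_option autoImplicit false
universe u
open CategoryTheory CategoryTheory.Limits MonoidalCategory CartesianMonoidalCategory MonObj GrpObj AlgebraicGeometry
open K270.MB Groth.Agent.Sga3B.DSPts K86.GmPow

namespace K86.NodeSemiAb

noncomputable section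

/-- The standard torus is `𝔾_m^r`. -/
theorem exists_isGmPow (S : Scheme.{u}) (r : ℕ) :
    ∃ χ : Fin r → U (Red.DS S (Fin r → ℤ)), IsGmPow r (Red.DS S (Fin r → ℤ)) χ := by
  obtain ⟨χ, hχ⟩ := cm_surjective (dsChar (𝟙 (Red.DS S (Fin r → ℤ))))
  have key : ∀ {T' : Over S} (x : T' ⟶ Red.DS S (Fin r → ℤ)), cm (fun j => ures x (χ j)) = dsChar x := by
    intro T' x
    have h1 := dsChar_comp x (𝟙 (Red.DS S (Fin r → ℤ)))
    rw [Category.comp_id, ← hχ, comp_cm] at h1
    exact h1.symm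
  refine ⟨χ, ⟨fun x y j => ?_, fun v => ?_⟩⟩
  · have h1 := key (x * y)
    rw [dsChar_mul, ← key x, ← key y, ← cm_mul] at h1
    exact congrFun (cm_injective h1) j
  · refine ⟨dsEquiv _ _ (cm v), fun j => ?_, fun y hy => ?_⟩
    · have h1 := key (dsEquiv _ _ (cm v))
      rw [dsChar_dsEquiv] at h1
      exact congrFun (cm_injective h1) j
    · have h1 := key y
      have h2 : (fun j => ures y (χ j)) = v := funext hy
      rw [h2] at h1
      rw [h1, dsEquiv_dsChar]

theorem fac_iff {S : Scheme.{u}} {G T B : Over S} [GrpObj B] {τ : T ⟶ G} {π : G ⟶ B}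
    (h : AlgGrp.IsKernel τ π) {T' : Over S} (x : T' ⟶ G) : Fac τ x ↔ x ≫ π = 1 := by
  have h0 : IsPullback τ (toUnit T) π η[B] := h
  constructor
  · rintro ⟨y, rfl⟩
    rw [Category.assoc, h0.w, ← Category.assoc, one_eq_one]
    exact MonObj.comp_one _
  · intro hx
    refine ⟨h0.lift x (toUnit _) ?_, h0.lift_fst _ _ _⟩
    rw [hx, one_eq_one]
    exact (MonObj.comp_one _).symm

theorem main : K270.MB.NodeSemiAb.{u} := by
  intro k _ _ G _ _ _ _ _ _ hG
  let s : Spec (CommRingCat.of k) := IsLocalRing.closedPoint k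
  have h1 : Groth.Agent.Sga7.H301.PGrp.NoGa G inferInstance :=
    Groth.Agent.Sga7.H301.PGrp.NoGa.of_bc (Red.geomPt s) (hG s)
  obtain ⟨r, τ, B, _, π, i1, i2, i3, i4, i5, i6, i7, i8, i9⟩ :=
    Groth.Agent.Sga7.H109.Struct.exists_semiabelian G h1
  obtain ⟨χ, hχ⟩ := exists_isGmPow (Spec (CommRingCat.of k)) r
  exact ⟨r, _, B, inferInstance, inferInstance, χ, τ, π, ⟨i1, i2⟩, i3, hχ, fun x => fac_iff i6 x, i5, i4, i7,
    Groth.Agent.Sga3.H780.Pointed.geometricallyIntegral B⟩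

end

end K86.NodeSemiAb
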