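import Groth.Agent.GrpSch.K270.MB.Shape
import Groth.Agent.AlgGrp.K407.UnitOne
import Groth.Agent.AlgGrp.K406.GrpInt

/-!
# Node (3.2) of S14306: invertible functions on `G × G` which are trivial on the axes
-/

set_option autoImplicit false
universe u
open CategoryTheory CategoryTheory.Limits MonoidalCategory CartesianMonoidalCategory MonObj AlgebraicGeometry
open K270.MB

namespace K86.NodeUnits

theorem main : K270.MB.NodeUnits.{u} := by
  intro k _ _ G _ _ _ _ _ v h1 h2
  have hi : IsIntegral G.left := K406.GrpInt.isIntegral_grp G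
  apply Units.ext
  refine K407.UnitOne.eq_one G G (v : Γ((G ⊗ G).left, ⊤)) v.isUnit ?_ 1 ?_
  · have h := congrArg (Units.val : U G → _) h1
    have e : (toUnit G ≫ (1 : 𝟙_ (Over (Spec (CommRingCat.of k))) ⟶ G)) = 1 := MonObj.comp_one _
    rw [e]
    exact h
  · have h := congrArg (Units.val : U G → _) h2
    have e : (toUnit G ≫ (1 : 𝟙_ (Over (Spec (CommRingCat.of k))) ⟶ G)) = 1 := MonObj.comp_one _
    rw [e]
    exact h

end K86.NodeUnits
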