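import Groth.Agent.GrpSch.K270.MB.Shape2
import Groth.Agent.GrpSch.K86.PairCount
import Groth.Agent.Sga7.H274.TorsLift
import Groth.Agent.Sga3B.KerGrp

/-!
# Pairings on torsion points: base change, restriction to points, reduction
-/

set_option autoImplicit false
universe u
open CategoryTheory CategoryTheory.Limits MonoidalCategory CartesianMonoidalCategory MonObj GrpObj AlgebraicGeometry
open K270.MB

namespace K86.TPair

noncomputable section

variable {S S' : Scheme.{u}}

section dn

variable (k : S' ⟶ S) {X : Over S} [GrpObj X] {T : Over S'}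

/-- Points of the base change, as groups. -/
def dnE : (T ⟶ Red.bc k X) ≃* ((Over.map k).obj T ⟶ X) where
  toFun := dn k
  invFun := upp k
  left_inv := upp_dn k
  right_inv := dn_upp k
  map_mul' := dn_mul k

theorem dnE_apply (x : T ⟶ Red.bc k X) : dnE k x = dn k x := rfl

theorem dn_pow_eq_one {x : T ⟶ Red.bc k X} {N : ℕ} (hx : x ^ N = 1) : dn k x ^ N = 1 := by
  rw [← dn_pow, hx, dn_one]

theorem dn_bcPt (w : 𝟙_ (Over S) ⟶ X) :
    dn k (Groth.Agent.Sga7.H620.Neutral.bcPt k X w) = toUnit _ ≫ w := dn_upp k _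

end dn

theorem e_congr' {X : Over S} [GrpObj X] {N : ℕ} (e : TPairing X N) {T : Over S} {x x' y y' : T ⟶ X}
    (hx : x ^ N = 1) (hy : y ^ N = 1) (hx' : x' ^ N = 1)
    (hy' : y' ^ N = 1) (h1 : x = x') (h2 : y = y') : e.e x y hx hy = e.e x' y' hx' hy' := by
  subst h1 h2
  rfl

/-- Base change of a pairing. -/
def bc (k : S' ⟶ S) {X : Over S} [GrpObj X] {N : ℕ} (e : TPairing X N) : TPairing (Red.bc k X) N where
  e {T} x y hx hy := e.e (T := (Over.map k).obj T) (dn k x) (dn k y) (dn_pow_eq_one k hx) (dn_pow_eq_one k hy)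
  nat {T T'} g x y hx hy hx' hy' := by
    have h := e.nat ((Over.map k).map g) (dn k x) (dn k y) (dn_pow_eq_one k hx) (dn_pow_eq_one k hy)
      (by rw [← dn_comp]; exact dn_pow_eq_one k hx') (by rw [← dn_comp]; exact dn_pow_eq_one k hy')
    refine Eq.trans ?_ h
    exact e_congr' e _ _ _ _ (dn_comp k _ _) (dn_comp k _ _)
  mul_left {T} x x' y hx hx' hxx' hy := by
    refine Eq.trans ?_ (e.mul_left (dn k x) (dn k x') (dn k y) (dn_pow_eq_one k hx) (dn_pow_eq_one k hx')
      (by rw [← dn_mul]; exact dn_pow_eq_one k hxx') (dn_pow_eq_one k hy))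
    congr 1
    exact dn_mul k x x'
  mul_right {T} x y y' hx hy hy' hyy' := by
    refine Eq.trans ?_ (e.mul_right (dn k x) (dn k y) (dn k y') (dn_pow_eq_one k hx) (dn_pow_eq_one k hy)
      (dn_pow_eq_one k hy') (by rw [← dn_mul]; exact dn_pow_eq_one k hyy'))
    congr 1
    exact dn_mul k y y'

section TP

variable {X : Over S} [GrpObj X] {N : ℕ} (e : TPairing X N)

theorem e_congr {T : Over S} {x x' y y' : T ⟶ X} (hx : x ^ N = 1) (hy : y ^ N = 1) (hx' : x' ^ N = 1)
    (hy' : y' ^ N = 1) (h1 : x = x') (h2 : y = y') : e.e x y hx hy = e.e x' y' hx' hy' := by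
  subst h1 h2
  rfl

theorem e_one_left {T : Over S} (y : T ⟶ X) (h : (1 : T ⟶ X) ^ N = 1) (hy : y ^ N = 1) : e.e 1 y h hy = 1 := by
  have h1 := e.mul_left 1 1 y h h (by rw [_root_.mul_one]; exact h) hy
  have h2 : e.e (1 * 1) y (by rw [_root_.mul_one]; exact h) hy = e.e 1 y h hy :=
    e_congr e _ _ _ _ (_root_.mul_one _) rfl
  rw [h2] at h1
  exact (left_eq_mul.mp h1)

theorem e_one_right {T : Over S} (x : T ⟶ X) (hx : x ^ N = 1) (h : (1 : T ⟶ X) ^ N = 1) : e.e x 1 hx h = 1 := by
  have h1 := e.mul_right x 1 1 hx h h (by rw [_root_.mul_one]; exact h)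
  have h2 : e.e x (1 * 1) hx (by rw [_root_.mul_one]; exact h) = e.e x 1 hx h :=
    e_congr e _ _ _ _ rfl (_root_.mul_one _)
  rw [h2] at h1
  exact (left_eq_mul.mp h1)

/-- The values of the pairing are killed by `N`. -/
theorem e_pow [IsCommMonObj X] {T : Over S} (x y : T ⟶ X) (hx : x ^ N = 1) (hy : y ^ N = 1) :
    e.e x y hx hy ^ N = 1 := by
  have key : ∀ m : ℕ, ∀ h : (x ^ m) ^ N = 1, e.e (x ^ m) y h hy = e.e x y hx hy ^ m := by
    intro m
    induction m with
    | zero =>
      intro h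
      exact ((e_congr e h hy (one_pow N) hy (_root_.pow_zero x) rfl).trans (e_one_left e y _ hy)).trans
        (_root_.pow_zero _).symm
    | succ m ih =>
      intro h
      have hm : (x ^ m) ^ N = 1 := by rw [← pow_mul, mul_comm, pow_mul, hx, one_pow]
      have hm1 : (x ^ m * x) ^ N = 1 := by rw [← _root_.pow_succ]; exact h
      refine (e_congr e h hy hm1 hy (_root_.pow_succ x m) rfl).trans ?_
      refine (e.mul_left (x ^ m) x y hm hx hm1 hy).trans ?_
      refine (congrArg (· * e.e x y hx hy) (ih hm)).trans ?_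
      exact (_root_.pow_succ _ m).symm
  have h0 : (x ^ N) ^ N = 1 := by rw [hx, one_pow]
  rw [← key N h0]
  exact (e_congr e h0 hy (one_pow N) hy hx rfl).trans (e_one_left e y _ hy)

end TP

end

end K86.TPair
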